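import Cfsg.Agent.H332.EB.Two_m3
import Cfsg.Agent.H611.RealBlock
import Cfsg.Agent.Blocks.BlockIdem
import Cfsg.Agent.Blocks.PRegular
import Cfsg.Agent.Blocks.DefectCard
import Cfsg.Agent.S0907
import Cfsg.Agent.H769.PB.CoThreeRank5
import Cfsg.Agent.BpSpor.CoThreeCent
import Cfsg.Agent.BpSpor.CoThreeFive
import Cfsg.Agent.H970.Sep.Co3Seven
import Cfsg.Agent.KFacts.Co3.Sheet
import Cfsg.Agent.FastGrp
import Cfsg.Agent.Prune
set_option linter.all false

section
prune_inst 0x7f00000000000000000000000000000000000000000000000000000000000000000000000000000000000000000000000000000000000000000000000000000000000000000000000000000000000000003fffffffffffffffffffffffffffbeffbdffffffff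

-- part: H497/EB/Low
section
set_option linter.all false
open scoped Cfsg.Agent.FastGrp

/-!
# Criteria for membership in the principal block

* `mem_of_low`: the degree has a smaller `p`-part than all nontrivial `p`-regular classes.
* `mem_of_low_real`: for `p = 2` and a character fixed by `g ↦ g ^ k` (`IsK`), only the real classes matter.
* `sameBlock_of_reg`: a decomposition on the `p`-regular elements stays inside one block.
-/

set_option autoImplicit false

namespace Cfsg.Agent.H497.EB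

open Cfsg Cfsg.Agent.H610.EB
open scoped ComplexConjugate
open Cfsg.Agent.Blocks Cfsg.Agent.S4490

universe u

section

variable {S : Type u} [Group S] [Fintype S] {M : Ideal AlgInt} {p : ℕ}

theorem centralChar_mem_of_lt (hM : IsPModular p M) (φ : IrrCharacter S) (y : S)
    (h : (charDegree (φ : S → ℂ)).factorization p <
      (Subgroup.centralizer ({y} : Set S)).index.factorization p) :
    MemLocalIdeal M (centralChar (φ : S → ℂ) y) := by
  by_contra hcon
  exact absurd (DefectCard.factorization_index_le hM φ.2 y hcon) (not_le.2 h)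

/-- (LOW) -/
theorem mem_of_low (hM : IsPModular p M) (φ : IrrCharacter S)
    (h : ∀ y : S, IsPRegular p y → y ≠ 1 → (charDegree (φ : S → ℂ)).factorization p <
      (Subgroup.centralizer ({y} : Set S)).index.factorization p) : φ ∈ principalBlock M S := by
  classical
  have : Fact p.Prime := ⟨hM.1⟩
  have hprime : M.IsPrime := Local.isPrime_of_isPModular hM
  let one : IrrCharacter S := ⟨fun _ => 1, Basic.isIrrCharacter_one⟩
  show SameBlock M (one : S → ℂ) (φ : S → ℂ)
  refine PRegular.sameBlock_of_isPRegular hM one.2 φ.2 fun g hg => ?_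
  by_cases h1 : g = 1
  · subst h1
    rw [Basic.centralChar_one (Basic.irr_one_ne_zero one.2),
      Basic.centralChar_one (Basic.irr_one_ne_zero φ.2), sub_self]
    exact Local.memLocalIdeal_zero
  · have h2 := h g hg h1
    refine Local.memLocalIdeal_sub (centralChar_mem_of_lt hM one g ?_) (centralChar_mem_of_lt hM φ g h2)
    have h3 : charDegree (one : S → ℂ) = 1 := Basic.charDegree_of_eq (by simp [one])
    rw [h3, Nat.factorization_one]
    exact lt_of_le_of_lt (Nat.zero_le _) h2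

/-- (BR) a decomposition on the `p`-regular elements stays inside one block -/
theorem sameBlock_of_reg (hM : IsPModular p M) (χ θ : IrrCharacter S) {ψ : S → ℂ} (hψ : IsCharacter S ψ)
    (h : ∀ s : S, IsPRegular p s → (χ : S → ℂ) s = (θ : S → ℂ) s + ψ s) :
    SameBlock M (χ : S → ℂ) (θ : S → ℂ) := by
  classical
  have hprime : M.IsPrime := Local.isPrime_of_isPModular hM
  have hp : Fact p.Prime := ⟨hM.1⟩
  have hfin : Finite (IrrCharacter S) := Characters.Core.finite_irr
  have : Fintype (IrrCharacter S) := Fintype.ofFinite _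
  let B : Set (IrrCharacter S) := blockOf M (θ : S → ℂ)
  have hB : IsPBlock M B := ⟨θ, rfl⟩
  have hθB : θ ∈ B := Basic.mem_blockOf_self θ
  suffices hχB : χ ∈ B from Basic.sameBlock_symm hχB
  have hzero : ∀ g : S, ¬ IsPRegular p g → blockCoeff B g = 0 := by
    intro g hg
    rw [Basic.blockCoeff_def, Cfsg.Agent.S0907.result p M hM B hB 1 g (by
      rw [orderOf_one]
      exact hM.1.one_lt.ne' ∘ Nat.dvd_one.1) (not_not.1 hg), mul_zero]
  have h1 : ConvCentral.lin (χ : S → ℂ) (blockCoeff B) =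
      ConvCentral.lin (θ : S → ℂ) (blockCoeff B) + ConvCentral.lin ψ (blockCoeff B) := by
    rw [ConvCentral.lin_def, ConvCentral.lin_def, ConvCentral.lin_def, ← Finset.sum_add_distrib]
    refine Finset.sum_congr rfl fun g _ => ?_
    by_cases hg : IsPRegular p g
    · rw [h g hg, mul_add]
    · rw [hzero g hg, zero_mul, zero_mul, zero_mul, add_zero]
  obtain ⟨m, hm⟩ := Characters.Core.exists_nat_comb hψ
  have h2 : ConvCentral.lin ψ (blockCoeff B) =
      ∑ ξ : IrrCharacter S, (m ξ : ℂ) * ConvCentral.lin (ξ : S → ℂ) (blockCoeff B) := by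
    rw [ConvCentral.lin_def, hm]
    simp_rw [ConvCentral.lin_def, Finset.mul_sum]
    rw [Finset.sum_comm]
    refine Finset.sum_congr rfl fun g _ => ?_
    rw [Finset.sum_apply, Finset.mul_sum]
    refine Finset.sum_congr rfl fun ξ _ => ?_
    rw [Pi.smul_apply, nsmul_eq_mul]
    ring
  have h3 : ∀ ξ : IrrCharacter S, ConvCentral.lin (ξ : S → ℂ) (blockCoeff B) =
      ((if ξ ∈ B then charDegree (ξ : S → ℂ) else 0 : ℕ) : ℂ) := by
    intro ξ
    rw [BlockIdem.lin_blockCoeff, Basic.irr_one_eq_charDegree ξ.2]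
    split_ifs <;> simp
  by_contra hχB
  rw [h3 χ, if_neg hχB, h3 θ, if_pos hθB, h2] at h1
  simp_rw [h3] at h1
  have h4 : 0 = charDegree (θ : S → ℂ) +
      ∑ ξ : IrrCharacter S, m ξ * (if ξ ∈ B then charDegree (ξ : S → ℂ) else 0) := by
    exact_mod_cast h1
  have h5 := Basic.charDegree_pos θ.2
  omega

end

end Cfsg.Agent.H497.EB
end

-- part: H701/EB/CoThree
section
set_option linter.all false
open scoped Cfsg.Agent.FastGrp

/-!
# TEAM EB: the row `Co3` (helper701)

The permutation character of degree 11178 is `1 + 23 + 275 + 2024 + 8855`; the character of degree `2024 = 2 ^ 3 * 253`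
is in the principal 2-block, as `2 ^ 7` does not divide the order of the centralizer of a nontrivial element of odd order.
-/

set_option autoImplicit false
set_option linter.unusedSectionVars false

namespace Cfsg.Agent.H701.EB.CoThree

open Cfsg MulAction Cfsg.Agent.H33 Cfsg.Agent.H672.SporIM Cfsg.Agent.Characters.Core
open Cfsg.Agent.H593.IMFrame (Sub perm frame)
open Cfsg.Agent.H713.Spor.RankThree (pc inner_pc_one inner_ne)
open Cfsg.Agent.H769.PB.CoThreeRank5
open Cfsg.Agent.H419.Spor.Co3 (inc inc_injective inc_fix)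
open Cfsg.Agent.H610.EB Cfsg.Agent.H684.EB
open Cfsg.Agent.H610

open scoped ComplexConjugate

/-- The constituent of degree 2024. -/
theorem exists_phi [Fintype Spor.Co3] : ∃ φ : IrrCharacter Spor.Co3, charDegree (φ : Spor.Co3 → ℂ) = 2024 ∧
    classInner (perm Spor.Co3 X) (φ : Spor.Co3 → ℂ) ≠ 0 ∧ ∀ ψ : IrrCharacter Spor.Co3,
      classInner (perm Spor.Co3 X) (ψ : Spor.Co3 → ℂ) ≠ 0 → charDegree (ψ : Spor.Co3 → ℂ) = 2024 → ψ = φ := by
  classical
  have := Fintype.ofFinite X
  obtain ⟨x, b, hb⟩ := exists_sub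
  have hne : Nonempty X := ⟨x⟩
  obtain ⟨χ, D, hinj, hperm, hsum, hprod, hsq⟩ := frame hb
  have hperm' : perm Spor.Co3 X = ∑ i, (χ i : Spor.Co3 → ℂ) := by
    funext g
    rw [hperm, Finset.sum_apply]
  have hcon : ∀ η : Spor.Co3 → ℂ, IsIrrCharacter Spor.Co3 η → classInner (perm Spor.Co3 X) η ≠ 0 →
      ∃ i, (χ i : Spor.Co3 → ℂ) = η := by
    intro η hη h0
    by_contra hcon
    push Not at hcon
    apply h0
    rw [hperm', classInner_sum_left, Finset.sum_eq_zero]
    intro i _
    exact classInner_irr_ne (χ i).2 hη (hcon i)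
  have hone : classInner (perm Spor.Co3 X) (1 : Spor.Co3 → ℂ) = 1 := inner_pc_one (G := Spor.Co3) X
  obtain ⟨i, hi⟩ := hcon 1 isIrr_one (by rw [hone]; norm_num)
  have hone' : charDegree (1 : Spor.Co3 → ℂ) = 1 := by
    unfold charDegree
    simp
  have hi1 : charDegree (χ i : Spor.Co3 → ℂ) = 1 := by rw [hi, hone']
  -- the degree 23
  obtain ⟨μ, hμ⟩ := Cfsg.Agent.H843.IMC.Co3A.exists_mu
  have hμ23 : charDegree (μ : Spor.Co3 → ℂ) = 23 := by
    have h4 := hμ 1
    have h6 : Cfsg.Agent.H419.LeechIrr.lchi inc 1 = 24 := by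
      rw [Cfsg.Agent.H419.LeechIrr.lchi, map_one, Cfsg.Agent.SigZeroCo2.Lin.tr8_one]
      norm_num
    rw [h6, Cfsg.Agent.Blocks.Basic.irr_one_eq_charDegree μ.2] at h4
    have : (24 : ℂ) = ((1 + charDegree (μ : Spor.Co3 → ℂ) : ℕ) : ℂ) := by rw [h4]; push_cast; ring
    have h9 : 24 = 1 + charDegree (μ : Spor.Co3 → ℂ) := by exact_mod_cast this
    omega
  have hμ1 : (μ : Spor.Co3 → ℂ) ≠ 1 := by
    intro h
    rw [h, hone'] at hμ23
    omega
  have hXμ : classInner (perm Spor.Co3 X) (μ : Spor.Co3 → ℂ) ≠ 0 := by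
    refine inner_ne inc μ hμ1 (d := 1) (fun g => by rw [hμ g]; norm_num) X (fun x => x.1) (fun _ _ => rfl) ?_
    intro z
    have h1 : 1 < Nat.card X := by rw [card_X]; norm_num
    have hnt : Nontrivial X := Finite.one_lt_card_iff_nontrivial.1 h1
    obtain ⟨w, hw⟩ := exists_ne z
    obtain ⟨g, hg⟩ := exists_smul_eq Spor.Co3 z w
    refine ⟨g, fun hcon => hw ?_⟩
    rw [← hg]
    exact Subtype.ext hcon
  obtain ⟨j, hj⟩ := hcon μ μ.2 hXμ
  have hj1 : charDegree (χ j : Spor.Co3 → ℂ) = 23 := by rw [hj, hμ23]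
  -- the degree 275
  obtain ⟨θ, hθ, hθd, -⟩ := exists_275
  have hXθ : classInner (perm Spor.Co3 X) (θ : Spor.Co3 → ℂ) ≠ 0 := by
    intro h0
    have h1 : (θ : Spor.Co3 → ℂ) + 1 = pc Spor.Co3 Cfsg.Agent.H843.IMC.Co3A.Y := by
      funext g
      rw [Pi.add_apply, hθ, Pi.one_apply, sub_add_cancel]
      rfl
    have h2 : classInner (perm Spor.Co3 X) (pc Spor.Co3 Cfsg.Agent.H843.IMC.Co3A.Y) = 1 := by
      rw [← h1, classInner_add_right, h0, hone, zero_add]
    have h3 : classInner (perm Spor.Co3 X) (pc Spor.Co3 Cfsg.Agent.H843.IMC.Co3A.Y) =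
        (Nat.card (Quotient (orbitRel Spor.Co3 (X × Cfsg.Agent.H843.IMC.Co3A.Y))) : ℂ) := by
      have h4 := classInner_def (pc Spor.Co3 X) (pc Spor.Co3 Cfsg.Agent.H843.IMC.Co3A.Y)
      change classInner (perm Spor.Co3 X) (pc Spor.Co3 Cfsg.Agent.H843.IMC.Co3A.Y) = _ at h4
      rw [h4, ← Cfsg.Agent.S0157.avg_fixedBy (G := Spor.Co3) (X × Cfsg.Agent.H843.IMC.Co3A.Y)]
      congr 1
      refine Finset.sum_congr rfl fun g _ => ?_
      rw [Cfsg.Agent.S0157.card_fixedBy_prod, pc, pc, Complex.conj_natCast]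
      push_cast
      rfl
    rw [h2] at h3
    have h5 : Nat.card (Quotient (orbitRel Spor.Co3 (X × Cfsg.Agent.H843.IMC.Co3A.Y))) = 1 := by exact_mod_cast h3.symm
    have h6 : Subsingleton (Quotient (orbitRel Spor.Co3 (X × Cfsg.Agent.H843.IMC.Co3A.Y))) :=
      (Nat.card_eq_one_iff_unique.1 h5).1
    have h7 : IsPretransitive Spor.Co3 (X × Cfsg.Agent.H843.IMC.Co3A.Y) :=
      (pretransitive_iff_subsingleton_quotient Spor.Co3 _).2 h6
    have hY : Nonempty Cfsg.Agent.H843.IMC.Co3A.Y := by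
      refine (Nat.card_pos_iff.1 ?_).1
      rw [Cfsg.Agent.H843.IMC.Co3A.card_Y]
      norm_num
    obtain ⟨y⟩ := hY
    have h8 := (stabilizer Spor.Co3 (x, y)).card_mul_index
    rw [index_stabilizer_of_transitive, Nat.card_prod, card_X, Cfsg.Agent.H843.IMC.Co3A.card_Y,
      Cfsg.Agent.H843.IMC.Co3A.card_co3] at h8
    omega
  obtain ⟨k, hk⟩ := hcon θ θ.2 hXθ
  have hk1 : charDegree (χ k : Spor.Co3 → ℂ) = 275 := by rw [hk, hθd]
  obtain ⟨c, d, hc, hd, hcd, hall⟩ := dioph (fun i => charDegree (χ i : Spor.Co3 → ℂ)) D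
    (fun i => by
      rw [← Cfsg.Agent.H843.IMC.Co3A.card_co3]
      exact Cfsg.Agent.Blocks.Knorr.charDegree_dvd (χ i).2) hi1 hj1 hk1 (by rw [hsum, card_X]) (by
      rw [hprod, card_X]
      decide +kernel) hsq
  -- different degrees
  have hdeg : ∀ u v : Fin 5, charDegree (χ u : Spor.Co3 → ℂ) = charDegree (χ v : Spor.Co3 → ℂ) → u = v := by
    intro u v huv
    change charDegree (χ c : Spor.Co3 → ℂ) = 2024 at hc
    change charDegree (χ d : Spor.Co3 → ℂ) = 8855 at hd
    rcases hall u with rfl | rfl | rfl | rfl | rfl <;> rcases hall v with rfl | rfl | rfl | rfl | rfl <;>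
      first
        | rfl
        | (exfalso; omega)
  have hinner : ∀ (u : Fin 5) (ψ : IrrCharacter Spor.Co3), classInner (perm Spor.Co3 X) (ψ : Spor.Co3 → ℂ) ≠ 0 →
      charDegree (ψ : Spor.Co3 → ℂ) = charDegree (χ u : Spor.Co3 → ℂ) → ψ = χ u := by
    intro u ψ h0 hd'
    obtain ⟨v, hv⟩ := hcon ψ ψ.2 h0
    have h1 : u = v := hdeg u v (by rw [← hd', ← hv])
    rw [h1]
    exact Subtype.ext hv.symm
  have hself : ∀ u : Fin 5, classInner (perm Spor.Co3 X) (χ u : Spor.Co3 → ℂ) ≠ 0 := by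
    intro u
    rw [hperm', classInner_sum_left, Finset.sum_eq_single u]
    · rw [classInner_irr_self (χ u).2]
      norm_num
    · intro v _ hv
      exact classInner_irr_ne (χ v).2 (χ u).2 (fun h => hv (hinj (Subtype.ext h)))
    · intro h
      exact absurd (Finset.mem_univ _) h
  exact ⟨χ c, hc, hself c, fun ψ h0 hd' => hinner c ψ h0 (by rw [hd']; exact hc.symm)⟩

/-! ### The power map -/

theorem perm_pow {k : ℕ} (hk : IsK Spor.Co3 k) [Finite Spor.Co3] (g : Spor.Co3) :
    perm Spor.Co3 X (g ^ k) = perm Spor.Co3 X g := by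
  unfold perm
  rw [fixedBy_pow hk X g]

/-! ### Centralizers -/

theorem card_cent_equiv {G H : Type*} [Group G] [Group H] (e : G ≃* H) (x : G) :
    Nat.card ↥(Subgroup.centralizer ({x} : Set G)) = Nat.card ↥(Subgroup.centralizer ({e x} : Set H)) := by
  refine Nat.card_congr (e.toEquiv.subtypeEquiv fun g => ?_)
  rw [Subgroup.mem_centralizer_singleton_iff, Subgroup.mem_centralizer_singleton_iff]
  constructor
  · intro h
    have h1 := congrArg e h
    rwa [map_mul, map_mul] at h1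
  · intro h
    apply e.injective
    rw [map_mul, map_mul]
    exact h

theorem isCo3 : Cfsg.Spor.IsoCo3 Spor.Co3 := ⟨MulEquiv.refl _⟩

theorem cent_zpowers {G : Type*} [Group G] (x : G) : Subgroup.centralizer ({x} : Set G) =
    Subgroup.centralizer ((Subgroup.zpowers x : Subgroup G) : Set G) := by
  ext g
  rw [Subgroup.mem_centralizer_singleton_iff, Subgroup.mem_centralizer_iff]
  constructor
  · rintro h _ ⟨n, rfl⟩
    exact ((Commute.symm h : Commute x g).zpow_left n).eq
  · intro h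
    exact (h x (Subgroup.mem_zpowers x)).symm

/-- elements of odd prime order -/
theorem not_dvd_prime {z : Spor.Co3} (hz : (orderOf z).Prime) (h2 : orderOf z ≠ 2) :
    ¬ 2 ^ 7 ∣ Nat.card ↥(Subgroup.centralizer ({z} : Set Spor.Co3)) := by
  have hfin : Finite Spor.Co3 := Nat.finite_of_card_ne_zero (by
    rw [Cfsg.Agent.H843.IMC.Co3A.card_co3]
    norm_num)
  have hd : orderOf z ∣ Nat.card Spor.Co3 := orderOf_dvd_natCard z
  rw [Cfsg.Agent.H843.IMC.Co3A.card_co3] at hd
  have hd' : orderOf z ∣ 2 ^ 10 * 3 ^ 7 * 5 ^ 3 * 7 ^ 1 * 11 ^ 1 * 23 ^ 1 := by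
    norm_num
    exact hd
  have two' : ∀ {q k : ℕ}, q.Prime → orderOf z ∣ q ^ k → orderOf z = q := fun hq h =>
    (Nat.prime_dvd_prime_iff_eq hz hq).1 (hz.dvd_of_dvd_pow h)
  have key : orderOf z = 2 ∨ orderOf z = 3 ∨ orderOf z = 5 ∨ orderOf z = 7 ∨ orderOf z = 11 ∨ orderOf z = 23 := by
    rcases hz.dvd_mul.1 hd' with h5 | h5
    · rcases hz.dvd_mul.1 h5 with h5 | h5
      · rcases hz.dvd_mul.1 h5 with h5 | h5
        · rcases hz.dvd_mul.1 h5 with h5 | h5
          · rcases hz.dvd_mul.1 h5 with h5 | h5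
            · exact Or.inl (two' (by norm_num) h5)
            · exact Or.inr (Or.inl (two' (by norm_num) h5))
          · exact Or.inr (Or.inr (Or.inl (two' (by norm_num) h5)))
        · exact Or.inr (Or.inr (Or.inr (Or.inl (two' (by norm_num) h5))))
      · exact Or.inr (Or.inr (Or.inr (Or.inr (Or.inl (two' (by norm_num) h5)))))
    · exact Or.inr (Or.inr (Or.inr (Or.inr (Or.inr (two' (by norm_num) h5)))))
  have h64 : ∀ n : ℕ, 2 ^ 7 ∣ n → 64 ∣ n := fun n h => Dvd.dvd.trans (by norm_num) h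
  rcases key with h | h | h | h | h | h
  · exact absurd h h2
  · intro hc
    have e := SporRec.Co3.Model.equivCo3
    have h3 : orderOf (e.symm z) = 3 := by rw [MulEquiv.orderOf_eq, h]
    apply Cfsg.Agent.BpSpor.CoThree.not_sixty_four h3
    rw [card_cent_equiv e, MulEquiv.apply_symm_apply]
    exact h64 _ hc
  · intro hc
    exact Cfsg.Agent.BpSpor.CoThreeFive.not_dvd_co3 h (h64 _ hc)
  · rw [cent_zpowers, (Cfsg.Agent.H970.Sep.Co3.cn7 isCo3 (Subgroup.zpowers z) (by rw [Nat.card_zpowers, h])).1]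
    norm_num
  · rw [cent_zpowers, Cfsg.Agent.H555.TwoSp.c11 isCo3 (Subgroup.zpowers z) (by rw [Nat.card_zpowers, h])]
    norm_num
  · rw [cent_zpowers, Cfsg.Agent.H555.TwoSp.c23 isCo3 (Subgroup.zpowers z) (by rw [Nat.card_zpowers, h])]
    norm_num

/-- elements of odd order -/
theorem not_dvd {y : Spor.Co3} (hy : IsPRegular 2 y) (hy1 : y ≠ 1) :
    ¬ 2 ^ 7 ∣ Nat.card ↥(Subgroup.centralizer ({y} : Set Spor.Co3)) := by
  have hfin : Finite Spor.Co3 := Nat.finite_of_card_ne_zero (by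
    rw [Cfsg.Agent.H843.IMC.Co3A.card_co3]
    norm_num)
  have h1 : orderOf y ≠ 1 := fun h => hy1 (orderOf_eq_one_iff.1 h)
  obtain ⟨q, hq, hqd⟩ := Nat.exists_prime_and_dvd h1
  have hpos := orderOf_pos y
  obtain ⟨m, hm⟩ := hqd
  have hm0 : m ≠ 0 := by
    rintro rfl
    rw [mul_zero] at hm
    omega
  have hz : orderOf (y ^ m) = q := by
    rw [orderOf_pow_of_dvd hm0 ⟨q, by rw [hm]; ring⟩, hm, Nat.mul_div_cancel _ (Nat.pos_of_ne_zero hm0)]
  intro hc
  refine not_dvd_prime (z := y ^ m) (by rw [hz]; exact hq) ?_ ?_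
  · rw [hz]
    rintro rfl
    exact hy ⟨m, hm⟩
  · refine hc.trans (Subgroup.card_dvd_of_le fun g hg => ?_)
    rw [Subgroup.mem_centralizer_singleton_iff] at hg ⊢
    exact (Commute.pow_right (show Commute g y from hg) m).eq

theorem index_factorization {y : Spor.Co3} (hy : IsPRegular 2 y) (hy1 : y ≠ 1) :
    3 < (Subgroup.centralizer ({y} : Set Spor.Co3)).index.factorization 2 := by
  have hfin : Finite Spor.Co3 := Nat.finite_of_card_ne_zero (by
    rw [Cfsg.Agent.H843.IMC.Co3A.card_co3]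
    norm_num)
  have h1 := (Subgroup.centralizer ({y} : Set Spor.Co3)).card_mul_index
  have h2 := not_dvd hy hy1
  have hc0 : Nat.card ↥(Subgroup.centralizer ({y} : Set Spor.Co3)) ≠ 0 := Nat.card_pos.ne'
  have hi0 : (Subgroup.centralizer ({y} : Set Spor.Co3)).index ≠ 0 := Subgroup.index_ne_zero_of_finite
  rw [Nat.prime_two.pow_dvd_iff_le_factorization hc0] at h2
  have h3 := congrArg (fun n : ℕ => n.factorization 2) h1
  rw [Nat.factorization_mul hc0 hi0, Finsupp.add_apply, Cfsg.Agent.H843.IMC.Co3A.card_co3,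
    show 495766656000 = 2 ^ 10 * 484147125 by norm_num, Nat.factorization_mul (by norm_num) (by norm_num),
    Finsupp.add_apply, Nat.prime_two.factorization_pow,
    Nat.factorization_eq_zero_of_not_dvd (show ¬ 2 ∣ 484147125 by norm_num)] at h3
  simp only [Finsupp.single_eq_same] at h3
  omega

/-- **The character of degree 2024 is fixed and lies in the principal 2-block.** -/
theorem main {k : ℕ} (hk : IsK Spor.Co3 k) {M : Ideal AlgInt} (hM : IsPModular 2 M) :
    ∃ φ : IrrCharacter Spor.Co3, φ ∈ principalBlock M Spor.Co3 ∧ charDegree (φ : Spor.Co3 → ℂ) = 2024 ∧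
      ∀ g, (φ : Spor.Co3 → ℂ) (g ^ k) = (φ : Spor.Co3 → ℂ) g := by
  have hfin : Finite Spor.Co3 := Nat.finite_of_card_ne_zero (by
    rw [Cfsg.Agent.H843.IMC.Co3A.card_co3]
    norm_num)
  have := Fintype.ofFinite Spor.Co3
  obtain ⟨φ, h1, h2, h3⟩ := exists_phi
  refine ⟨φ, ?_, h1, ?_⟩
  · refine Cfsg.Agent.H497.EB.mem_of_low hM φ fun y hy hy1 => ?_
    have h4 : (2024 : ℕ).factorization 2 = 3 := by
      rw [show 2024 = 2 ^ 3 * 253 by norm_num, Nat.factorization_mul (by norm_num) (by norm_num),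
        Finsupp.add_apply, Nat.prime_two.factorization_pow,
        Nat.factorization_eq_zero_of_not_dvd (show ¬ 2 ∣ 253 by norm_num)]
      simp
    rw [h1, h4]
    exact index_factorization hy hy1
  · apply (Twist.fixed_iff hk.coprime φ).1
    apply h3
    · rw [classInner_pw hk (perm_pow hk)]
      exact h2
    · rw [charDegree_pw hk, h1]

/-- Normal subgroups with inner automorphisms only and trivial centralizer. -/
theorem eq_top_of_inner {G : Type*} [Group G] {N : Subgroup G} [N.Normal] (hC : Subgroup.centralizer (N : Set G) = ⊥)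
    (h : ∀ α : MulAut N, ∃ n : N, α = MulAut.conj n) : N = ⊤ := by
  rw [eq_top_iff]
  intro g _
  obtain ⟨n, hn⟩ := h (MulAut.conjNormal g)
  have h1 : (n : G)⁻¹ * g ∈ Subgroup.centralizer (N : Set G) := by
    rw [Subgroup.mem_centralizer_iff]
    intro x hx
    have h2 := congrArg (fun β : MulAut N => ((β ⟨x, hx⟩ : N) : G)) hn
    simp only [MulAut.conjNormal_apply, MulAut.conj_apply, Subgroup.coe_mul, Subgroup.coe_inv] at h2
    have h3 : g * x * g⁻¹ = (n : G) * x * (n : G)⁻¹ := h2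
    calc x * ((n : G)⁻¹ * g) = (n : G)⁻¹ * ((n : G) * x * (n : G)⁻¹) * g := by group
      _ = (n : G)⁻¹ * (g * x * g⁻¹) * g := by rw [h3]
      _ = (n : G)⁻¹ * g * x := by group
  rw [hC, Subgroup.mem_bot] at h1
  rw [← inv_mul_eq_one.1 h1]
  exact n.2

universe u

/-- **The row `Co3` of S4522.** -/
theorem co3 {S : Type u} [Group S] (h : Cfsg.Spor.IsoCo3 S) : EvenB S := by
  obtain ⟨e0⟩ := h
  intro G _ _ N _ _ f hC _ k hk M hM
  obtain ⟨f⟩ := f
  have hN : N = ⊤ := eq_top_of_inner hC fun α =>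
    KFacts.Co3.Sheet.inner_of ((SporRec.Co3.Model.equivCo3.trans e0.symm).trans f) α
  subst hN
  have e : G ≃* Spor.Co3 := (Subgroup.topEquiv.symm.trans f.symm).trans e0
  obtain ⟨φ, h1, h2, h3⟩ := main (hk.of_injective e.symm.toMonoidHom e.symm.injective) hM
  have hMp : M.IsPrime := Cfsg.Agent.Blocks.Local.isPrime_of_isPModular hM
  have hd : charDegree ((φ : Spor.Co3 → ℂ) ∘ e) = 2024 := by
    rw [← h2]
    unfold charDegree
    rw [Function.comp_apply, map_one]
  refine ⟨⟨(φ : Spor.Co3 → ℂ) ∘ e, isIrr_comp e.toMonoidHom e.surjective φ.2⟩,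
    Cfsg.Agent.H133.PB.mem_principalBlock_comp e.toMonoidHom e.surjective h1, ?_, ?_, ?_⟩
  · show Even (charDegree ((φ : Spor.Co3 → ℂ) ∘ e))
    rw [hd]
    decide
  · intro g
    show (φ : Spor.Co3 → ℂ) (e (g ^ k)) = (φ : Spor.Co3 → ℂ) (e g)
    rw [map_pow, h3]
  · have h5 : Function.Surjective (e.toMonoidHom.comp (⊤ : Subgroup G).subtype) := by
      intro x
      exact ⟨⟨e.symm x, Subgroup.mem_top _⟩, e.apply_symm_apply x⟩
    refine classInner_irr_ne (isIrr_comp _ h5 φ.2) isIrr_one ?_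
    intro hcon
    have h6 : (φ : Spor.Co3 → ℂ) (e ((1 : (⊤ : Subgroup G)) : G)) = 1 := congrFun hcon 1
    have h7 : (φ : Spor.Co3 → ℂ) 1 = 1 := by
      rwa [Subgroup.coe_one, map_one] at h6
    rw [Cfsg.Agent.Blocks.Basic.irr_one_eq_charDegree φ.2, h2] at h7
    norm_num at h7

end Cfsg.Agent.H701.EB.CoThree
end
end
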